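import Groth.Agent.GrpdLib.InvAffineDimOne
import Groth.Agent.GrpdLib.NormAffine
import Groth.Agent.GrpdLib.GenericNorm
import Groth.Agent.GrpdLib.RestrictMono
import Groth.Agent.GrpdLib.Restrict
import Groth.Agent.GrpdLib.Saturation
import Groth.Agent.GrpdLib.DimOnePts
import Groth.Agent.AffThick.Components
import Groth.Agent.DimOneAmple.Main

/-!
# Invariant affine opens from an invariant function on the non-flat locus
-/

set_option autoImplicit false
set_option linter.style.haveILetI false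
set_option maxHeartbeats 800000
set_option backward.isDefEq.respectTransparency false
set_option backward.isDefEq.respectTransparency.types false

universe u

open CategoryTheory CategoryTheory.Limits AlgebraicGeometry TopologicalSpace

namespace Groth.Agent.AlgSpB.IntQuot

open Groth.Agent.GrpdLib Groth.Agent.GrpdLib.Saturation Groth.Agent.GrpdLib.InvAffineDimOne

/-- An invariant affine open around a finite invariant set, given an invariant function on a closed invariant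
set off which the groupoid is flat. -/
theorem exists_invariant_affine_of_function {S : Scheme.{u}} (G : Grpd.GroupoidScheme S) [IsFinite G.s]
    {A : Type u} [CommRing A] [IsNoetherianRing A] (jU : G.U ⟶ Spec (CommRingCat.of A))
    [IsOpenImmersion jU] {F O : Set G.U} (hO : O.Finite) (hFO : ∀ r : G.R, G.s r ∈ F → G.t r ∈ O)
    (N : G.U.Opens) (hflat : Flat (pullback.snd G.s G.U.nilradical.subschemeι ∣_ (G.U.nilradical.subschemeι ⁻¹ᵁ N)))
    {P : Set G.U} (hP : IsClosed P) (hPinv : ∀ r : G.R, G.s r ∈ P ↔ G.t r ∈ P)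
    (hPN : ∀ x ∈ ((N : Set G.U)ᶜ), x ∈ P)
    (h₁ : A) (hh₁ : h₁ ∈ PrimeSpectrum.vanishingIdeal (Set.range jU)ᶜ)
    (hTh : ∀ x ∈ O, x ∈ P → h₁ ∉ (jU x).asIdeal)
    (hh₁P : ∀ r : G.R, G.s r ∈ P → (h₁ ∈ (jU (G.s r)).asIdeal ↔ h₁ ∈ (jU (G.t r)).asIdeal)) :
    ∃ V : G.U.Opens, IsAffineOpen V ∧ F ⊆ V ∧ G.s ⁻¹ᵁ V = G.t ⁻¹ᵁ V := by
  classical
  have : IsLocallyNoetherian G.U := by
    have : IsLocallyNoetherian (Spec (CommRingCat.of A)) := inferInstance
    exact LocallyOfFiniteType.isLocallyNoetherian jU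
  have : IsLocallyNoetherian G.R := LocallyOfFiniteType.isLocallyNoetherian G.s
  have hrel := rel_equivalence G
  let Z₀ : Set (PrimeSpectrum A) := (Set.range jU)ᶜ
  let I := PrimeSpectrum.vanishingIdeal Z₀
  have hclP : IsClosed (Z₀ ∪ jU '' P) := by
    rw [← isOpen_compl_iff]
    have : (Z₀ ∪ jU '' P)ᶜ = jU '' Pᶜ := by
      rw [Set.compl_union, Set.image_compl_eq_range_sdiff_image jU.isOpenEmbedding.injective, compl_compl]
      rfl
    rw [this]
    exact jU.isOpenEmbedding.isOpenMap _ hP.isOpen_compl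
  -- adjust off `P`
  let J := PrimeSpectrum.vanishingIdeal (Z₀ ∪ jU '' P)
  have hJI : J ≤ I := PrimeSpectrum.vanishingIdeal_anti_mono Set.subset_union_left
  obtain ⟨e, he, hOh⟩ := AffThick.exists_add_forall_not_mem (I := J) (hO.toFinset.image fun x => (jU x).asIdeal)
    (fun q hq => by obtain ⟨x, -, rfl⟩ := Finset.mem_image.1 hq; exact (jU x).isPrime) h₁
    (fun q hq hJq => by
      obtain ⟨x, hx, rfl⟩ := Finset.mem_image.1 hq
      rw [Set.Finite.mem_toFinset] at hx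
      have h1 : jU x ∈ Z₀ ∪ jU '' P := by
        rw [← hclP.closure_eq, ← PrimeSpectrum.zeroLocus_vanishingIdeal_eq_closure]
        exact hJq
      rcases h1 with h1 | ⟨x', hx', he'⟩
      · exact absurd ⟨x, rfl⟩ h1
      obtain rfl : x' = x := jU.isOpenEmbedding.injective he'
      exact hTh _ hx hx')
  let h : A := h₁ + e
  have hhI : h ∈ I := I.add_mem hh₁ (hJI he)
  have hhP : ∀ x ∈ P, (h ∈ (jU x).asIdeal ↔ h₁ ∈ (jU x).asIdeal) := fun x hx => by
    have he' : e ∈ (jU x).asIdeal :=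
      (PrimeSpectrum.mem_vanishingIdeal _ _).1 he _ (Or.inr ⟨x, hx, rfl⟩)
    exact Ideal.add_mem_iff_left _ he'
  let W₁ : G.U.Opens := jU ⁻¹ᵁ PrimeSpectrum.basicOpen h
  have hW₁ : IsAffineOpen W₁ := by
    refine (IsAffineOpen.Spec_basicOpen (R := CommRingCat.of A) h).preimage_of_isOpenImmersion jU fun q hq => ?_
    by_contra hq'
    exact hq ((PrimeSpectrum.mem_vanishingIdeal _ _).1 hhI q hq')
  have hmemW : ∀ x, x ∈ W₁ ↔ h ∉ (jU x).asIdeal := fun _ => Iff.rfl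
  have hOW : O ⊆ W₁ := fun x hx =>
    hOh _ (Finset.mem_image.2 ⟨x, hO.mem_toFinset.2 hx, rfl⟩)
  let hU : Γ(G.U, ⊤) := jU.appTop ((Scheme.ΓSpecIso (CommRingCat.of A)).inv h)
  have hhU : G.U.basicOpen hU = W₁ := by
    rw [← Scheme.preimage_basicOpen_top, basicOpen_eq_of_affine]
  let R₁ := G.s ⁻¹ᵁ W₁
  let b : Γ(G.R, R₁) := G.R.presheaf.map (homOfLE (le_top : R₁ ≤ ⊤)).op (G.t.appTop hU)
  have hbmem : ∀ r : G.R, r ∈ G.R.basicOpen b ↔ G.s r ∈ W₁ ∧ G.t r ∈ W₁ := fun r => by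
    rw [Scheme.basicOpen_res, ← Scheme.preimage_basicOpen_top, hhU]
    rfl
  let : Algebra Γ(G.U, W₁) Γ(G.R, R₁) := (G.s.app W₁).hom.toAlgebra
  have : Module.Finite Γ(G.U, W₁) Γ(G.R, R₁) := G.s.finite_app W₁ hW₁
  have : IsNoetherianRing Γ(G.U, W₁) := IsLocallyNoetherian.component_noetherian ⟨W₁, hW₁⟩
  have hgd : NormAffine.GoesDown Γ(G.U, W₁) Γ(G.R, R₁) b :=
    goesDown G.s N hflat hW₁ b fun r hr hrb => by
      by_contra hrN
      have hsP : G.s r ∈ P := hPN _ hrN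
      have htP : G.t r ∈ P := (hPinv r).1 hsP
      refine hrb ((hbmem r).2 ⟨hr, ?_⟩)
      rw [hmemW, hhP _ htP, ← hh₁P r hsP, ← hhP _ hsP]
      exact hr
  let V₁ : G.U.Opens := ⟨(G.s '' (G.t ⁻¹' (W₁ : Set G.U)ᶜ))ᶜ,
    (G.s.isClosedMap _ (W₁.2.isClosed_compl.preimage G.t.continuous)).isOpen_compl⟩
  let V : G.U.Opens := W₁ ⊓ V₁
  have hmemV : ∀ x, x ∈ V ↔ x ∈ W₁ ∧ ∀ r : G.R, G.s r = x → G.t r ∈ W₁ := fun x =>
    and_congr_right fun _ =>
      ⟨fun hx r hr => by_contra fun hc => hx ⟨r, hc, hr⟩, fun hx ⟨r, hc, hr⟩ => hc (hx r hr)⟩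
  have hR₁ : IsAffineOpen R₁ := hW₁.preimage G.s
  have haff : IsAffineOpen (hW₁.fromSpec ⁻¹ᵁ V) := by
    refine NormAffine.isAffineOpen_good b hgd _ fun x => ?_
    show hW₁.fromSpec x ∈ V ↔ _
    rw [hmemV]
    have hcomm : ∀ Q : PrimeSpectrum Γ(G.R, R₁), G.s (hR₁.fromSpec Q) =
        hW₁.fromSpec (PrimeSpectrum.comap (G.s.app W₁).hom Q) := fun Q => by
      rw [← Scheme.Hom.comp_apply, ← hW₁.SpecMap_appLE_fromSpec G.s hR₁ le_rfl, Scheme.Hom.appLE_eq_app,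
        Scheme.Hom.comp_apply]
      rfl
    have hbQ : ∀ Q : PrimeSpectrum Γ(G.R, R₁), hR₁.fromSpec Q ∈ G.R.basicOpen b ↔ b ∉ Q.asIdeal := fun Q => by
      show Q ∈ hR₁.fromSpec ⁻¹ᵁ G.R.basicOpen b ↔ _
      rw [hR₁.fromSpec_preimage_basicOpen]
      rfl
    constructor
    · intro hx Q hQ
      have hQ' : PrimeSpectrum.comap (G.s.app W₁).hom Q = x := PrimeSpectrum.ext hQ
      rw [← hbQ, hbmem]
      have hsQ := hcomm Q
      rw [hQ'] at hsQ
      exact ⟨hsQ ▸ hx.1, hx.2 _ hsQ⟩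
    · intro hx
      refine ⟨hW₁.range_fromSpec.le ⟨x, rfl⟩, fun r hr => ?_⟩
      have hrR : r ∈ R₁ := show G.s r ∈ W₁ from hr ▸ hW₁.range_fromSpec.le ⟨x, rfl⟩
      obtain ⟨Q, rfl⟩ := hR₁.range_fromSpec.ge hrR
      rw [hcomm] at hr
      have := hx Q (congrArg PrimeSpectrum.asIdeal (hW₁.fromSpec.isOpenEmbedding.injective hr))
      rw [← hbQ, hbmem] at this
      exact this.2
  refine ⟨V, ?_, fun x hx => (hmemV x).2 ⟨hOW (t_e_apply G x ▸ hFO (G.e x) ((s_e_apply G x).symm ▸ hx)),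
    fun r hr => hOW (hFO r (hr.symm ▸ hx))⟩, ?_⟩
  · have := haff.image_of_isOpenImmersion hW₁.fromSpec
    rwa [Scheme.Hom.image_preimage_eq_opensRange_inf, hW₁.opensRange_fromSpec,
      inf_eq_right.2 inf_le_left] at this
  have hinv : ∀ x y, Rel G x y → x ∈ V → y ∈ V := by
    intro x y hxy hx
    have horb : ∀ z, Rel G z y → z ∈ W₁ := fun z hz => by
      obtain ⟨r, hr₁, hr₂⟩ := hrel.trans hz (hrel.symm hxy)
      rw [← hr₁]; exact ((hmemV x).mp hx).2 r hr₂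
    exact (hmemV y).mpr ⟨horb y (hrel.refl y), fun r hr => horb _ ⟨r, rfl, hr⟩⟩
  ext r
  exact ⟨fun h => hinv _ _ (hrel.symm ⟨r, rfl, rfl⟩) h, fun h => hinv _ _ ⟨r, rfl, rfl⟩ h⟩

end Groth.Agent.AlgSpB.IntQuot
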