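import Groth.Agent.AlgSpB.IntQuot.Pts
import Groth.Agent.AlgSpB.IntQuot.Adjust
import Groth.Agent.AlgSpB.RedInduced
import Groth.Agent.AlgSp.PointsMor

/-!
# Quotients of open subschemes of Noetherian affine schemes by finite maps are schemes
-/

set_option autoImplicit false
set_option maxHeartbeats 1000000
set_option backward.isDefEq.respectTransparency false
set_option backward.isDefEq.respectTransparency.types false
universe u
open CategoryTheory CategoryTheory.Limits AlgebraicGeometry Topology TopologicalSpace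

namespace Groth.Agent.AlgSpB.IntQuot

open _root_.AlgSp Groth.Agent.GrpdLib

variable {S : Scheme.{u}}

theorem range_ofPt {F : Sp S} {T : Over S} (g : (yon S).obj T ⟶ F) :
    Set.range (Points.ofPt g) = Set.range (Points.map g) := by
  ext x
  constructor
  · rintro ⟨t, rfl⟩; exact ⟨_, (Points.ofPt_eq_map_ofScheme g t).symm⟩
  · rintro ⟨p, rfl⟩
    exact ⟨Points.toScheme T p, by rw [Points.ofPt_eq_map_ofScheme, Points.ofScheme_toScheme]⟩

theorem exists_ofPt_eq {F : Sp S} {T : Over S} {g : (yon S).obj T ⟶ F} (hgs : Function.Surjective (Points.map g))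
    (x : Points F) : ∃ t, Points.ofPt g t = x :=
  (range_ofPt g ▸ hgs x : x ∈ Set.range (Points.ofPt g))

/-- A function `c` on `Spec A`, supported in `D(a)`, whose pullback under `q` cuts out a given basic open. -/
theorem exists_basicOpen_extend {Y : Scheme.{u}} {A : Type u} [CommRing A] (q : Y ⟶ Spec (CommRingCat.of A))
    [IsImmersion q] (a : A) (hcl : IsClosed ((PrimeSpectrum.basicOpen a : Set (PrimeSpectrum A))ᶜ ∪ Set.range q))
    (f : Γ(Y, ⊤)) (hf : Y.basicOpen f ≤ q ⁻¹ᵁ PrimeSpectrum.basicOpen a) :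
    ∃ c : A, PrimeSpectrum.basicOpen c ≤ PrimeSpectrum.basicOpen a ∧
      ∀ y : Y, c ∉ (q y).asIdeal ↔ y ∈ Y.basicOpen f := by
  let a' : Γ(Spec (CommRingCat.of A), ⊤) := (Scheme.ΓSpecIso (CommRingCat.of A)).inv a
  let D : (Spec (CommRingCat.of A)).Opens := (Spec (CommRingCat.of A)).basicOpen a'
  have hD : D = PrimeSpectrum.basicOpen a := basicOpen_eq_of_affine (R := CommRingCat.of A) a
  have hDa : IsAffineOpen D := (isAffineOpen_top _).basicOpen a'
  have : IsAffine D.toScheme := hDa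
  have hmem : ∀ w : (q ⁻¹ᵁ D).toScheme, D.ι ((q ∣_ D) w) = q w.1 := fun w => by
    rw [← Scheme.Hom.comp_apply, morphismRestrict_ι]; rfl
  have : IsClosedImmersion (q ∣_ D) := by
    refine IsClosedImmersion.of_isPreimmersion _ ?_
    have : Set.range (q ∣_ D) = D.ι ⁻¹' ((PrimeSpectrum.basicOpen a : Set (PrimeSpectrum A))ᶜ ∪ Set.range q) := by
      ext z
      constructor
      · rintro ⟨w, rfl⟩
        exact Or.inr ⟨w.1, by rw [← Scheme.Hom.comp_apply (q ∣_ D) D.ι, morphismRestrict_ι]; rfl⟩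
      · rintro (h | ⟨y, hy⟩)
        · exact absurd (hD ▸ z.2 : z.1 ∈ PrimeSpectrum.basicOpen a) h
        · exact ⟨⟨y, show q y ∈ D from hy ▸ z.2⟩, D.ι.isOpenEmbedding.injective ((hmem _).trans hy)⟩
    rw [this]
    exact hcl.preimage D.ι.continuous
  obtain ⟨σ, hσ⟩ := (q ∣_ D).app_surjective ⊤ (isAffineOpen_top _) ((q ⁻¹ᵁ D).ι.appTop f)
  obtain ⟨c', hc'⟩ := (isAffineOpen_top (Spec (CommRingCat.of A))).basicOpen_basicOpen_is_basicOpen a'
    ((Spec (CommRingCat.of A)).presheaf.map (eqToHom D.ι_image_top.symm).op ((D.ι.appIso ⊤).inv σ))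
  let c : A := (Scheme.ΓSpecIso (CommRingCat.of A)).hom c'
  have hc : PrimeSpectrum.basicOpen c = D.ι ''ᵁ D.toScheme.basicOpen σ := by
    rw [Scheme.image_basicOpen, ← basicOpen_eq_of_affine, Iso.hom_inv_id_apply, hc', Scheme.basicOpen_res,
      inf_eq_right]
    exact ((Spec (CommRingCat.of A)).basicOpen_le _).trans D.ι_image_top.le
  refine ⟨c, ?_, fun y => ?_⟩
  · rw [hc, ← hD]
    rintro _ ⟨z, -, rfl⟩
    exact z.2
  show q y ∈ PrimeSpectrum.basicOpen c ↔ _
  have hpre : (q ⁻¹ᵁ D).toScheme.basicOpen ((q ⁻¹ᵁ D).ι.appTop f) = (q ∣_ D) ⁻¹ᵁ D.toScheme.basicOpen σ := by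
    refine Eq.trans ?_ (Scheme.preimage_basicOpen_top (q ∣_ D) σ).symm
    exact congrArg _ hσ.symm
  replace hpre := (Scheme.preimage_basicOpen_top (q ⁻¹ᵁ D).ι f).trans hpre
  rw [hc]
  constructor
  · rintro ⟨z, hz, hzy⟩
    have hy : y ∈ q ⁻¹ᵁ D := show q y ∈ D from hzy ▸ z.2
    have e : (q ∣_ D) ⟨y, hy⟩ = z := D.ι.isOpenEmbedding.injective ((hmem _).trans hzy.symm)
    exact hpre.ge (show (q ∣_ D) ⟨y, hy⟩ ∈ D.toScheme.basicOpen σ from e.symm ▸ hz)
  · intro hy
    have hy' : y ∈ q ⁻¹ᵁ D := show q y ∈ D from hD ▸ hf hy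
    exact ⟨_, hpre.le (show (⟨y, hy'⟩ : (q ⁻¹ᵁ D).toScheme) ∈ (q ⁻¹ᵁ D).ι ⁻¹ᵁ Y.basicOpen f from hy),
      hmem ⟨y, hy'⟩⟩

set_option maxHeartbeats 2000000 in
/-- One step: if the reduced structure on the image of the non-flat locus has affine neighbourhoods, so does
the space itself. -/
theorem exists_nhd_step (X : Space S) {Z : Over S} (g : (yon S).obj Z ⟶ X.obj) (hg : RepWith @IsFinite g)
    (hgs : Function.Surjective (Points.map g)) {A : Type u} [CommRing A] [IsNoetherianRing A]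
    (jU : Z.left ⟶ Spec (CommRingCat.of A)) [IsOpenImmersion jU] (N : Z.left.Opens)
    (hflat : ∀ {R : Over S} (t s : R ⟶ Z), IsPullback ((yon S).map t) ((yon S).map s) g g →
      Flat (pullback.snd s.left Z.left.nilradical.subschemeι ∣_ (Z.left.nilradical.subschemeι ⁻¹ᵁ N)))
    (x : Points X.obj)
    (hQ : x ∈ Points.ofPt g '' (N : Set Z.left)ᶜ →
      ∀ (XQ : Space S) (iQ : XQ.obj ⟶ X.obj), RepWith @IsClosedImmersion iQ →
        Set.range (Points.map iQ) = Points.ofPt g '' (N : Set Z.left)ᶜ → ∀ xQ : Points XQ.obj,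
        ∃ (T : Over S) (j : (yon S).obj T ⟶ XQ.obj), IsAffine T.left ∧ RepWith @IsOpenImmersion j ∧
          xQ ∈ Set.range (Points.ofPt j)) :
    ∃ (T : Over S) (j : (yon S).obj T ⟶ X.obj), IsAffine T.left ∧ RepWith @IsOpenImmersion j ∧
      x ∈ Set.range (Points.ofPt j) := by
  classical
  let Q : Set (Points X.obj) := Points.ofPt g '' (N : Set Z.left)ᶜ
  have hQcl : IsClosed Q := isClosedMap_ofPt X g hg _ N.2.isClosed_compl
  obtain ⟨R, t, sR, sq⟩ := AlgSpB.exists_pullback_yon hg.1 g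
  let G := kpGrpd sq
  have : IsFinite G.s := hg.2 _ _ _ sq
  let P : Set G.U := Points.ofPt g ⁻¹' Q
  have hP : IsClosed P := hQcl.preimage (Points.continuous_ofPt g)
  have hrel : ∀ r : G.R, Points.ofPt g (G.t r) = Points.ofPt g (G.s r) := fun r =>
    (ofPt_eq_ofPt_iff sq _ _).2 ⟨r, rfl, rfl⟩
  have hPinv : ∀ r : G.R, G.s r ∈ P ↔ G.t r ∈ P := fun r => by
    show Points.ofPt g (G.s r) ∈ Q ↔ Points.ofPt g (G.t r) ∈ Q
    rw [hrel]
  let O : Set G.U := Points.ofPt g ⁻¹' {x}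
  have hO : O.Finite := finite_fibre X g hg x
  let Z₀ : Set (PrimeSpectrum A) := (Set.range jU)ᶜ
  have hclP : ∀ C : Set G.U, IsClosed C → IsClosed (Z₀ ∪ jU '' C) := fun C hC => by
    rw [← isOpen_compl_iff]
    have : (Z₀ ∪ jU '' C)ᶜ = jU '' Cᶜ := by
      rw [Set.compl_union, Set.image_compl_eq_range_sdiff_image jU.isOpenEmbedding.injective, compl_compl]
      rfl
    rw [this]
    exact jU.isOpenEmbedding.isOpenMap _ hC.isOpen_compl
  have key : ∃ h₁ : A, h₁ ∈ PrimeSpectrum.vanishingIdeal Z₀ ∧ (∀ z ∈ O, z ∈ P → h₁ ∉ (jU z).asIdeal) ∧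
      ∀ r : G.R, G.s r ∈ P → (h₁ ∈ (jU (G.s r)).asIdeal ↔ h₁ ∈ (jU (G.t r)).asIdeal) := by
    by_cases hx : x ∈ Q
    swap
    · exact ⟨0, Submodule.zero_mem _, fun z hz hzP => absurd (show Points.ofPt g z ∈ Q from hzP) (by rwa [show Points.ofPt g z = x from hz]),
        fun r _ => ⟨fun _ => Submodule.zero_mem _, fun _ => Submodule.zero_mem _⟩⟩
    obtain ⟨ZQ, iQ, hZQ, hiQ, hiQr, -⟩ := exists_redInduced X.property Q hQcl
    have := mono_of_isClosedImmersion hiQ
    obtain ⟨xQ, hxQ⟩ : x ∈ Set.range (Points.map iQ) := by rw [hiQr]; exact hx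
    obtain ⟨T, jT, hT, hjT, t₀, ht₀⟩ := hQ hx ⟨ZQ, hZQ⟩ iQ hiQ hiQr xQ
    have hh : RepWith @IsImmersion (jT ≫ iQ) := (repWith_isMultiplicative (S := S) @IsImmersion).comp_mem _ _
      (Groth.Agent.AlgSp.repWith_mono (fun f (hf : IsOpenImmersion f) => (inferInstance : IsImmersion f)) hjT)
      (Groth.Agent.AlgSp.repWith_mono (fun f (hf : IsClosedImmersion f) => (inferInstance : IsImmersion f)) hiQ)
    obtain ⟨YT, r₁, r₂, sq₂⟩ := AlgSpB.exists_pullback_yon hg.1 (jT ≫ iQ)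
    have : IsImmersion r₁.left := hh.2 _ _ _ sq₂.flip
    have : IsFinite r₂.left := hg.2 _ _ _ sq₂
    have ht₀x : Points.ofPt (jT ≫ iQ) t₀ = x := by rw [← Points.map_ofPt, ht₀, hxQ]
    have hr₁P : Set.range r₁.left ⊆ P := by
      rintro _ ⟨y, rfl⟩
      show Points.ofPt g (r₁.left y) ∈ Q
      rw [(ofPt_eq_ofPt_iff sq₂ _ _).2 ⟨y, rfl, rfl⟩, ← Points.map_ofPt, ← hiQr]
      exact ⟨_, rfl⟩
    have : UniversallyClosed (𝟙 T.left) := inferInstance
    let C₁ : Set G.U := Points.ofPt g ⁻¹' (Points.map iQ '' (Set.range (Points.map jT))ᶜ)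
    have hC₁ : IsClosed C₁ :=
      ((Groth.Agent.AlgSp.isClosedMap_map_of_repWith (Groth.Agent.AlgSp.repWith_mono
        (fun f (hf : IsClosedImmersion f) => (inferInstance : UniversallyClosed f)) hiQ)) _
        (isOpen_range_of_isOpenImmersion hjT).isClosed_compl).preimage (Points.continuous_ofPt g)
    have hPC : ∀ z ∈ P, z ∈ C₁ ∨ z ∈ Set.range r₁.left := fun z hz => by
      obtain ⟨p, hp⟩ : Points.ofPt g z ∈ Set.range (Points.map iQ) := by rw [hiQr]; exact hz
      by_cases hpT : p ∈ Set.range (Points.map jT)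
      · refine Or.inr ?_
        rw [← range_ofPt] at hpT
        obtain ⟨t', rfl⟩ := hpT
        rw [Points.map_ofPt] at hp
        obtain ⟨w, hw, -⟩ := (ofPt_eq_ofPt_iff sq₂ z t').1 hp.symm
        exact ⟨w, hw⟩
      · exact Or.inl ⟨p, hpT, hp⟩
    obtain ⟨a, ha, haO⟩ := AffThick.exists_add_forall_not_mem (I := PrimeSpectrum.vanishingIdeal (Z₀ ∪ jU '' C₁))
      (hO.toFinset.image fun z => (jU z).asIdeal)
      (fun q hq => by obtain ⟨z, -, rfl⟩ := Finset.mem_image.1 hq; exact (jU z).isPrime) 0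
      (fun q hq hle => by
        obtain ⟨z, hz, rfl⟩ := Finset.mem_image.1 hq
        rw [Set.Finite.mem_toFinset] at hz
        exfalso
        have h1 : jU z ∈ Z₀ ∪ jU '' C₁ := by
          rw [← (hclP _ hC₁).closure_eq, ← PrimeSpectrum.zeroLocus_vanishingIdeal_eq_closure]
          exact hle
        rcases h1 with h1 | ⟨z', ⟨p, hp, hpe⟩, he⟩
        · exact h1 ⟨z, rfl⟩
        obtain rfl : z' = z := jU.isOpenEmbedding.injective he
        rw [show Points.ofPt g z' = x from hz, ← hxQ] at hpe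
        refine hp ?_
        rw [injective_map_of_mono iQ hpe, ← range_ofPt]
        exact ⟨t₀, ht₀⟩)
    have haz : ∀ q ∈ Z₀ ∪ jU '' C₁, a ∈ q.asIdeal := fun q hq => (PrimeSpectrum.mem_vanishingIdeal _ _).1 ha q hq
    have haO' : ∀ z ∈ O, a ∉ (jU z).asIdeal := fun z hz => by
      simpa using haO _ (Finset.mem_image.2 ⟨z, hO.mem_toFinset.2 hz, rfl⟩)
    let q := r₁.left ≫ jU
    have hclq : IsClosed ((PrimeSpectrum.basicOpen a : Set (PrimeSpectrum A))ᶜ ∪ Set.range q) := by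
      have : (PrimeSpectrum.basicOpen a : Set (PrimeSpectrum A))ᶜ ∪ Set.range q =
          (PrimeSpectrum.basicOpen a : Set (PrimeSpectrum A))ᶜ ∪ (Z₀ ∪ jU '' P) := by
        ext v
        constructor
        · rintro (h | ⟨y, rfl⟩)
          · exact Or.inl h
          · exact Or.inr (Or.inr ⟨_, hr₁P ⟨y, rfl⟩, (Scheme.Hom.comp_apply r₁.left jU y).symm⟩)
        · rintro (h | h | ⟨z, hz, rfl⟩)
          · exact Or.inl h
          · exact Or.inl (fun hc => hc (haz v (Or.inl h)))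
          · rcases hPC z hz with hc | ⟨y, rfl⟩
            · exact Or.inl (fun hc' => hc' (haz _ (Or.inr ⟨z, hc, rfl⟩)))
            · exact Or.inr ⟨y, Scheme.Hom.comp_apply r₁.left jU y⟩
      rw [this]
      exact (PrimeSpectrum.basicOpen a).2.isClosed_compl.union (hclP _ hP)
    let D₀ : Set T.left := r₂.left '' (q ⁻¹' (PrimeSpectrum.basicOpen a : Set (PrimeSpectrum A))ᶜ)
    have hD₀ : IsClosed D₀ :=
      r₂.left.isClosedMap _ ((PrimeSpectrum.basicOpen a).2.isClosed_compl.preimage q.continuous)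
    have ht₀D : t₀ ∈ (⟨D₀ᶜ, hD₀.isOpen_compl⟩ : T.left.Opens) := by
      rintro ⟨y, hy, he⟩
      refine hy (show a ∉ (jU (r₁.left y)).asIdeal from haO' _ ?_)
      show Points.ofPt g (r₁.left y) = x
      rw [(ofPt_eq_ofPt_iff sq₂ _ _).2 ⟨y, rfl, rfl⟩, he, ht₀x]
    obtain ⟨f, hfle, hft⟩ := (isAffineOpen_top T.left).exists_basicOpen_le (⟨t₀, ht₀D⟩ : (⟨D₀ᶜ, hD₀.isOpen_compl⟩ : T.left.Opens)) trivial
    have hfq : YT.left.basicOpen (r₂.left.appTop f) ≤ q ⁻¹ᵁ PrimeSpectrum.basicOpen a := by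
      rw [← Scheme.preimage_basicOpen_top]
      intro y hy
      by_contra hya
      exact hfle hy ⟨y, hya, rfl⟩
    obtain ⟨c, hca, hcy⟩ := exists_basicOpen_extend q a hclq (r₂.left.appTop f) hfq
    have hcy' : ∀ y : YT.left, c ∉ (jU (r₁.left y)).asIdeal ↔ r₂.left y ∈ T.left.basicOpen f := fun y => by
      have := hcy y
      rw [← Scheme.preimage_basicOpen_top] at this
      exact this
    refine ⟨c, (PrimeSpectrum.mem_vanishingIdeal _ _).2 fun v hv => by_contra fun hc => hca hc (haz v (Or.inl hv)),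
      fun z hz hzP => ?_, ?_⟩
    · obtain ⟨y, hy₁, hy₂⟩ := (ofPt_eq_ofPt_iff sq₂ z t₀).1 ((show Points.ofPt g z = x from hz).trans ht₀x.symm)
      subst hy₁
      rw [hcy', hy₂]
      exact hft
    have hdir : ∀ z z' : G.U, Points.ofPt g z = Points.ofPt g z' → z ∈ P → c ∉ (jU z).asIdeal → c ∉ (jU z').asIdeal := by
      intro z z' e hz hcz
      rcases hPC z hz with hc | ⟨y, rfl⟩
      · exact absurd (haz _ (Or.inr ⟨z, hc, rfl⟩)) (hca hcz)
      obtain ⟨y', hy₁, hy₂⟩ := (ofPt_eq_ofPt_iff sq₂ z' (r₂.left y)).1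
        (e.symm.trans ((ofPt_eq_ofPt_iff sq₂ _ _).2 ⟨y, rfl, rfl⟩))
      subst hy₁
      rw [hcy', hy₂, ← hcy']
      exact hcz
    intro r hr
    exact not_iff_not.1 ⟨hdir _ _ (hrel r).symm hr, hdir _ _ (hrel r) ((hPinv r).1 hr)⟩
  obtain ⟨h₁, hh₁, hTh, hh₁P⟩ := key
  obtain ⟨V, hV, hOV, hVinv⟩ := exists_invariant_affine_of_function G jU (F := O) hO
    (fun r hr => (hrel r).trans hr) N (hflat t sR sq) hP hPinv (fun z hz => ⟨z, hz, rfl⟩) h₁ hh₁ hTh hh₁P
  obtain ⟨T, j, hT, hj, hle⟩ := CodimOne.exists_affine_of_invariant X g hg hgs V hV fun y y' e hy => by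
    obtain ⟨r, h1, h2⟩ := (ofPt_eq_ofPt_iff sq y y').1 e
    have h : r ∈ G.t ⁻¹ᵁ V := show t.left r ∈ V from h1.symm ▸ hy
    rw [← hVinv] at h
    exact h2 ▸ h
  obtain ⟨z, hz⟩ := exists_ofPt_eq hgs x
  exact ⟨T, j, hT, hj, hle ⟨z, hOV hz, hz⟩⟩

theorem exists_nhd_induct (X : Space S) {Z : Over S} (g : (yon S).obj Z ⟶ X.obj) (hg : RepWith @IsFinite g)
    (hgs : Function.Surjective (Points.map g)) [NoetherianSpace Z.left] {A : Type u} [CommRing A]
    [IsNoetherianRing A] (jU : Z.left ⟶ Spec (CommRingCat.of A)) [IsOpenImmersion jU] (C : Closeds Z.left) :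
    ∀ (X' : Space S) (i : X'.obj ⟶ X.obj), RepWith @IsClosedImmersion i →
      Points.ofPt g ⁻¹' Set.range (Points.map i) ⊆ C → ∀ x : Points X'.obj,
      ∃ (T : Over S) (j : (yon S).obj T ⟶ X'.obj), IsAffine T.left ∧ RepWith @IsOpenImmersion j ∧
        x ∈ Set.range (Points.ofPt j) := by
  induction C using WellFoundedLT.induction with
  | ind C IH =>
  intro X' i hi hC x
  have := mono_of_isClosedImmersion hi
  let Z' := hi.1.pullback g
  let k : Z' ⟶ Z := hi.1.snd g
  let g' : (yon S).obj Z' ⟶ X'.obj := hi.1.fst g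
  have sq : IsPullback g' ((yon S).map k) i g := hi.1.isPullback g
  have hg' : RepWith @IsFinite g' := MorphismProperty.of_isPullback sq.flip hg
  have hgs' : Function.Surjective (Points.map g') := (Groth.Agent.AlgSp.repWith_surjective_iff g' hg'.1).1
    (MorphismProperty.of_isPullback sq.flip ((Groth.Agent.AlgSp.repWith_surjective_iff g hg.1).2 hgs))
  have : IsClosedImmersion k.left := hi.2 _ _ _ sq
  have hk : ∀ z, Points.ofPt g (k.left z) = Points.map i (Points.ofPt g' z) := fun z => by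
    rw [Points.map_ofPt, sq.w, ofPt_map_comp]
  have : NoetherianSpace Z'.left := k.left.isClosedEmbedding.isInducing.noetherianSpace
  have : IsLocallyNoetherian Z.left := LocallyOfFiniteType.isLocallyNoetherian jU
  have : IsLocallyNoetherian Z'.left := LocallyOfFiniteType.isLocallyNoetherian k.left
  let m := k.left ≫ jU
  have : QuasiCompact m := quasiCompact_of_noetherianSpace_source m
  have : IsAffine m.image := isAffine_of_isAffineHom m.imageι
  have : IsLocallyNoetherian m.image := LocallyOfFiniteType.isLocallyNoetherian m.imageι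
  have : IsNoetherianRing Γ(m.image, ⊤) := IsLocallyNoetherian.component_noetherian ⟨⊤, isAffineOpen_top m.image⟩
  let jU' : Z'.left ⟶ Spec (CommRingCat.of Γ(m.image, ⊤)) := m.toImage ≫ m.image.isoSpec.hom
  have : IsOpenImmersion jU' := inferInstanceAs (IsOpenImmersion (m.toImage ≫ m.image.isoSpec.hom))
  obtain ⟨R, t, s, sq'⟩ := AlgSpB.exists_pullback_yon hg'.1 g'
  have : IsFinite s.left := hg'.2 _ _ _ sq'
  have : IsLocallyNoetherian R.left := LocallyOfFiniteType.isLocallyNoetherian s.left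
  have : LocallyOfFinitePresentation s.left := inferInstance
  obtain ⟨N, hN, hflat⟩ := GenericNorm.exists_flat_nhd s.left
  refine exists_nhd_step X' g' hg' hgs' jU' N (fun {R₂} t₂ s₂ sq₂ => ?_) x ?_
  · let e : R₂ ≅ R := (Functor.FullyFaithful.ofFullyFaithful (yon S)).preimageIso (sq₂.isoIsPullback _ _ sq')
    have he : e.hom ≫ s = s₂ := (yon S).map_injective (by
      rw [Functor.map_comp, Functor.FullyFaithful.preimageIso_hom, Functor.FullyFaithful.map_preimage]
      exact sq₂.isoIsPullback_hom_snd _ _ sq')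
    let p : pullback s₂.left Z'.left.nilradical.subschemeι ⟶ pullback s.left Z'.left.nilradical.subschemeι :=
      pullback.map _ _ _ _ e.hom.left (𝟙 _) (𝟙 _) (by rw [← Over.comp_left, he]; exact Category.comp_id _)
        (by rw [Category.id_comp, Category.comp_id])
    have : IsIso e.hom.left := inferInstanceAs (IsIso ((Over.forget S).map e.hom))
    have : IsIso p := inferInstanceAs (IsIso (pullback.map _ _ _ _ e.hom.left (𝟙 _) (𝟙 _) _ _))
    have hp : p ≫ pullback.snd s.left Z'.left.nilradical.subschemeι = pullback.snd s₂.left _ := by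
      rw [pullback.lift_snd, Category.comp_id]
    rw [← hp, morphismRestrict_comp]
    infer_instance
  intro hx XQ iQ hiQ hiQr xQ
  have hcomp := (repWith_isMultiplicative (S := S) @IsClosedImmersion).comp_mem _ _ hiQ hi
  let C' : Closeds Z.left := ⟨Points.ofPt g ⁻¹' (Points.ofPt g '' (k.left '' (N : Set Z'.left)ᶜ)),
    (isClosedMap_ofPt X g hg _ (k.left.isClosedMap _ N.2.isClosed_compl)).preimage (Points.continuous_ofPt g)⟩
  refine IH C' (lt_of_le_of_ne (fun z hz => hC ?_) fun heq => ?_) XQ (iQ ≫ i) hcomp (fun z hz => ?_) xQ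
  · obtain ⟨_, ⟨n, -, rfl⟩, e⟩ := hz
    exact ⟨_, (hk n).symm.trans e⟩
  · obtain ⟨n₀, -⟩ := hx
    have : Nonempty Z'.left := ⟨n₀⟩
    obtain ⟨mz, hmz⟩ := exists_maximal_orbit X' g' hg'
    obtain ⟨_, ⟨n, hn, rfl⟩, e⟩ := heq.ge (hC (show k.left mz ∈ Points.ofPt g ⁻¹' Set.range (Points.map i) from ⟨_, (hk mz).symm⟩))
    rw [hk, hk] at e
    exact hn (hN n (hmz n (injective_map_of_mono i e)))
  · obtain ⟨p, hp⟩ := hz
    rw [Points.map_comp] at hp
    obtain ⟨n, hn, hne⟩ := hiQr.le ⟨p, rfl⟩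
    exact ⟨_, ⟨n, hn, rfl⟩, by rw [hk, hne, hp]⟩

/-- A space with a finite surjection from an open subscheme of a Noetherian affine scheme is locally affine. -/
theorem exists_affine_nhd (X : Space S) {Z : Over S} (g : (yon S).obj Z ⟶ X.obj) (hg : RepWith @IsFinite g)
    (hgs : Function.Surjective (Points.map g)) {A : Type u} [CommRing A] [IsNoetherianRing A]
    (jU : Z.left ⟶ Spec (CommRingCat.of A)) [IsOpenImmersion jU] (x : Points X.obj) :
    ∃ (T : Over S) (j : (yon S).obj T ⟶ X.obj), IsAffine T.left ∧ RepWith @IsOpenImmersion j ∧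
      x ∈ Set.range (Points.ofPt j) := by
  have : NoetherianSpace Z.left := jU.isOpenEmbedding.isInducing.noetherianSpace
  exact exists_nhd_induct X g hg hgs jU ⊤ X (𝟙 X.obj)
    ((repWith_isMultiplicative (S := S) @IsClosedImmersion).id_mem _) (fun _ _ => trivial) x

end Groth.Agent.AlgSpB.IntQuot
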