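import Groth.Agent.AlgSpB.SchStage.Main
import Groth.Agent.AffThick.Components
import Mathlib.AlgebraicGeometry.AffineTransitionLimit
import Mathlib.AlgebraicGeometry.QuasiAffine

/-!
# Quasi-affine stages, and finite subsets of quasi-affine schemes
-/

universe u

open CategoryTheory CategoryTheory.Limits AlgebraicGeometry Opposite TopologicalSpace

set_option backward.isDefEq.respectTransparency false
set_option backward.isDefEq.respectTransparency.types false
set_option autoImplicit false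

namespace Groth.Agent.AlgSpB.IntQuot

open _root_.AlgSp Groth.Agent.AlgSp Groth.Agent.AlgSpB.SchStage

variable {S : Scheme.{u}}

/-- If a limit is a quasi-affine scheme then so is some stage. -/
theorem exists_quasiAffine_stage [QuasiSeparatedSpace ↥S] {I : Type u} [SmallCategory I] [IsCofiltered I]
    {D : I ⥤ Sp S} (hD : ∀ i, IsAlgSpace (D.obj i)) (hDa : ∀ (i j : I) (φ : i ⟶ j), IsAffineMor (D.map φ))
    (hqc : ∀ i, IsQuasiCompactSp (D.obj i)) (hqs : ∀ i, IsQuasiSeparatedSp (D.obj i)) {c : Cone D} (hc : IsLimit c)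
    {Y₀ : Over S} (e : c.pt ≅ (yon S).obj Y₀) [Y₀.left.IsQuasiAffine] :
    ∃ (i : I) (T : Over S), T.left.IsQuasiAffine ∧ Nonempty ((yon S).obj T ≅ D.obj i) := by
  obtain ⟨i₀, hi₀⟩ := LimScheme.exists_scheme_stage hD hDa hqc hqs hc
    (Groth.Agent.AlgSpB.isRepresentable_of_iso e.symm)
  obtain ⟨T, ⟨εT⟩⟩ := Groth.Agent.AlgSpB.exists_iso_of_isRepresentable hi₀
  obtain ⟨L, l, q, ⟨hL⟩, -, -, hl, sq⟩ := LimSp.exists_isPullback hDa εT.hom c hc
  have : IsIso l := sq.isIso_fst_of_isIso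
  let σ : ∀ j : Over i₀, (yon S).obj ((LimSp.sys hDa εT.hom).obj j) ≅ D.obj j.left := fun j =>
    @asIso _ _ _ _ ((LimSp.sysFst hDa εT.hom).app j)
      (((LimSp.repWith_map hDa j.hom).1.isPullback εT.hom).isIso_fst_of_isIso)
  let F := LimSp.sys hDa εT.hom ⋙ Over.forget S
  have hTc : CompactSpace ↥T.left := LimOpen.compactSpace_of_isQuasiCompactSp
    (isQuasiCompactSp_of_iso εT.symm (hqc i₀))
  have hTq : QuasiSeparatedSpace ↥T.left := quasiSeparatedSpace_left T
    (isQuasiSeparatedSp_of_iso εT (hqs i₀))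
  have : ∀ {a b : Over i₀} (φ : a ⟶ b), IsAffineHom (F.map φ) := fun φ =>
    LimSp.isAffineHom_sys hDa εT.hom φ
  have : ∀ x, CompactSpace ↥(F.obj x) := fun x => by
    have := LimSp.isAffineHom_sysSnd hDa εT.hom x
    exact QuasiCompact.compactSpace_of_compactSpace (LimSp.sysSnd hDa εT.hom x).left
  have : ∀ x, QuasiSeparatedSpace ↥(F.obj x) := fun x => by
    have := LimSp.isAffineHom_sysSnd hDa εT.hom x
    exact quasiSeparatedSpace_of_quasiSeparated (LimSp.sysSnd hDa εT.hom x).left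
  obtain ⟨θ, hθ⟩ := (yon S).map_surjective (l ≫ e.hom)
  have : IsIso ((yon S).map θ) := hθ ▸ inferInstance
  have : IsIso θ := isIso_of_reflects_iso _ (yon S)
  have : IsIso θ.left := inferInstanceAs (IsIso ((Over.forget S).map θ))
  have : ((Over.forget S).mapCone L).pt.IsQuasiAffine := Scheme.IsQuasiAffine.of_isAffineHom θ.left
  obtain ⟨k, hk⟩ := Scheme.exists_isQuasiAffine_of_isLimit F ((Over.forget S).mapCone L) hL
  exact ⟨k.left, (LimSp.sys hDa εT.hom).obj k, hk, ⟨σ k⟩⟩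

/-- Finitely many points of a quasi-affine scheme lie in an affine open. -/
theorem exists_affineOpen_of_finite (X : Scheme.{u}) [X.IsQuasiAffine] {s : Set X} (hs : s.Finite) :
    ∃ U : X.Opens, IsAffineOpen U ∧ s ⊆ U := by
  classical
  let Z₀ : Set (PrimeSpectrum Γ(X, ⊤)) := (Set.range X.toSpecΓ)ᶜ
  have hZ₀ : IsClosed Z₀ := X.toSpecΓ.isOpenEmbedding.isOpen_range.isClosed_compl
  obtain ⟨e, he, hne⟩ := AffThick.exists_add_forall_not_mem (I := PrimeSpectrum.vanishingIdeal Z₀)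
    (hs.toFinset.image fun x => (X.toSpecΓ x).asIdeal)
    (fun p hp => by obtain ⟨x, -, rfl⟩ := Finset.mem_image.1 hp; exact (X.toSpecΓ x).isPrime) 0
    (fun p hp hle => by
      obtain ⟨x, -, rfl⟩ := Finset.mem_image.1 hp
      exfalso
      have : X.toSpecΓ x ∈ Z₀ := by
        rw [← hZ₀.closure_eq, ← PrimeSpectrum.zeroLocus_vanishingIdeal_eq_closure]
        exact hle
      exact this ⟨x, rfl⟩)
  refine ⟨X.toSpecΓ ⁻¹ᵁ PrimeSpectrum.basicOpen e, ?_, fun x hx => ?_⟩
  · refine (IsAffineOpen.Spec_basicOpen (R := Γ(X, ⊤)) e).preimage_of_isOpenImmersion X.toSpecΓ fun q hq => ?_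
    by_contra hq'
    exact hq ((PrimeSpectrum.mem_vanishingIdeal _ _).1 he q hq')
  · show e ∉ (X.toSpecΓ x).asIdeal
    simpa using hne _ (Finset.mem_image.2 ⟨x, hs.mem_toFinset.2 hx, rfl⟩)

end Groth.Agent.AlgSpB.IntQuot
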