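import Groth.Agent.AlgSpB.IntQuot.Core
import Groth.Agent.AlgSpB.IntQuot.Stage
import Groth.Agent.AlgSpB.CodimOne.Prep
import Groth.Agent.S10033
import Groth.Agent.AlgSpB.OpenGlue

/-!
# Spaces with an integral surjection from a scheme with fibres in affine opens are schemes
-/

set_option autoImplicit false
set_option maxHeartbeats 1000000
set_option backward.isDefEq.respectTransparency false
set_option backward.isDefEq.respectTransparency.types false
universe u
open CategoryTheory CategoryTheory.Limits AlgebraicGeometry Topology TopologicalSpace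

namespace Groth.Agent.AlgSpB.IntQuot

open _root_.AlgSp

variable {S : Scheme.{u}} [IsLocallyNoetherian S]

/-- Shrink around a point so that the preimage lies in a given open containing the fibre. -/
theorem exists_open_preimage_le (X : Space S) (hsep : IsSeparatedSp X.obj) (hN : IsLocNoethSp X.obj) {Y : Over S}
    (g : (yon S).obj Y ⟶ X.obj) (hg : RepWith @IsIntegralHom g) (U : Y.left.Opens) (x : Points X.obj)
    (hU : ∀ y, Points.ofPt g y = x → y ∈ U) :
    ∃ (X' : Space S) (j : X' ⟶ X) (Y' : Over S) (g' : (yon S).obj Y' ⟶ X'.obj) (k : Y' ⟶ Y),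
      RepWith @IsOpenImmersion j.hom ∧ IsPullback g' ((yon S).map k) j.hom g ∧ IsOpenImmersion k.left ∧
      IsQuasiCompactSp X'.obj ∧ IsSeparatedSp X'.obj ∧ IsLocNoethSp X'.obj ∧
      CompactSpace Y'.left ∧ Set.range k.left ⊆ U ∧ x ∈ Set.range (Points.map j.hom) := by
  have hcl : IsClosedMap (Points.ofPt g) := fun C hC => by
    rw [← isOpen_compl_iff, Points.isOpen_iff]
    intro T h
    obtain ⟨P, r₁, r₂, sq⟩ := AlgSpB.exists_pullback_yon hg.1 h
    have : IsIntegralHom r₂.left := hg.2 _ _ _ sq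
    have e : Points.ofPt h ⁻¹' (Points.ofPt g '' C)ᶜ = (r₂.left '' (r₁.left ⁻¹' C))ᶜ := by
      ext t
      constructor
      · rintro ht ⟨w, hw, rfl⟩
        exact ht ⟨_, hw, (ofPt_eq_ofPt_iff sq _ _).2 ⟨w, rfl, rfl⟩⟩
      · rintro ht ⟨y, hy, hyt⟩
        obtain ⟨w, h1, h2⟩ := (ofPt_eq_ofPt_iff sq y t).1 hyt
        exact ht ⟨w, show r₁.left w ∈ C from h1.symm ▸ hy, h2⟩
    rw [e]
    exact (r₂.left.isClosedMap _ (hC.preimage r₁.left.continuous)).isOpen_compl
  obtain ⟨X₁, j₁, hj₁, hr₁⟩ := exists_openSubspace X (hcl _ U.2.isClosed_compl).isOpen_compl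
  obtain ⟨hsep₁, hN₁⟩ := CodimOne.sep_of_open j₁ hj₁ hsep hN
  obtain ⟨x₁, rfl⟩ : x ∈ Set.range (Points.map j₁.hom) := by
    rw [hr₁]
    rintro ⟨y, hy, he⟩
    exact hy (hU y he)
  obtain ⟨X₂, j₂, hj₂, hqc, hjs⟩ := CodimOne.exists_qc_open X₁ {x₁}
  obtain ⟨hsep₂, hN₂⟩ := CodimOne.sep_of_open j₂ hj₂ hsep₁ hN₁
  obtain ⟨x₂, rfl⟩ := hjs x₁ (Finset.mem_singleton_self x₁)
  have hj : RepWith @IsOpenImmersion (j₂ ≫ j₁).hom :=
    (repWith_isMultiplicative (S := S) @IsOpenImmersion).comp_mem _ _ hj₂ hj₁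
  let Y' := hj.1.pullback g
  let k : Y' ⟶ Y := hj.1.snd g
  have sq : IsPullback (hj.1.fst g) ((yon S).map k) (j₂ ≫ j₁).hom g := hj.1.isPullback g
  have hg' : RepWith @IsIntegralHom (hj.1.fst g) := MorphismProperty.of_isPullback sq.flip hg
  refine ⟨X₂, j₂ ≫ j₁, Y', hj.1.fst g, k, hj, sq, hj.2 _ _ _ sq, hqc, hsep₂, hN₂,
    Groth.Agent.AlgSp.LimOpen.compactSpace_of_isQuasiCompactSp (Groth.Agent.AlgSpSpec.qcqs_of_affine
      (IsAlgSpace.yon_obj Y') X₂.property (Groth.Agent.AlgSp.repWith_mono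
        (fun f (hf : IsIntegralHom f) => (inferInstance : IsAffineHom f)) hg') hqc
      (CodimOne.isQuasiSeparatedSp_of_sep hsep₂)).1, ?_, x₂, Points.map_comp j₂.hom j₁.hom x₂⟩
  rintro _ ⟨y, rfl⟩
  by_contra hy
  have : Points.ofPt g (k.left y) ∈ Set.range (Points.map j₁.hom) := by
    refine ⟨Points.map j₂.hom (Points.ofPt (hj.1.fst g) y), ?_⟩
    rw [← Points.map_comp, Points.map_ofPt, ← ofPt_map_comp, ← sq.w]
    rfl
  rw [hr₁] at this
  exact this ⟨_, hy, rfl⟩

theorem surjective_map_of_isPullback {X X' : Sp S} {Y Y' : Over S} {j : X' ⟶ X} {g : (yon S).obj Y ⟶ X}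
    {g' : (yon S).obj Y' ⟶ X'} {k : Y' ⟶ Y} (sq : IsPullback g' ((yon S).map k) j g) (hg : Representable g)
    (hgs : Function.Surjective (Points.map g)) : Function.Surjective (Points.map g') := by
  have h := MorphismProperty.of_isPullback sq.flip ((Groth.Agent.AlgSp.repWith_surjective_iff g hg).2 hgs)
  exact (Groth.Agent.AlgSp.repWith_surjective_iff g' h.1).1 h

/-- A separated Noetherian space with an integral surjection from a scheme with fibres in affine opens is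
locally affine. -/
theorem exists_nhd (X : Space S) (hsep : IsSeparatedSp X.obj) (hN : IsLocNoethSp X.obj) {Y : Over S}
    (g : (yon S).obj Y ⟶ X.obj) (hg : RepWith @IsIntegralHom g) (hgs : Function.Surjective (Points.map g))
    (x : Points X.obj) (hfib : ∃ U : Y.left.Opens, IsAffineOpen U ∧ ∀ y, Points.ofPt g y = x → y ∈ U) :
    ∃ (T : Over S) (j : (yon S).obj T ⟶ X.obj), IsAffine T.left ∧ RepWith @IsOpenImmersion j ∧
      x ∈ Set.range (Points.ofPt j) := by
  obtain ⟨U, hUa, hU⟩ := hfib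
  obtain ⟨X₂, j₂, Q, π, k, hj₂, sq, hk, hqc, hsep₂, hN₂, hQc, hkU, x₂, rfl⟩ :=
    exists_open_preimage_le X hsep hN g hg U x hU
  have : IsAffine U.toScheme := hUa
  have : Q.left.IsQuasiAffine :=
    Scheme.IsQuasiAffine.of_isImmersion (IsOpenImmersion.lift U.ι k.left (by rw [Scheme.Opens.range_ι]; exact hkU))
  have hπ : RepWith @IsIntegralHom π := MorphismProperty.of_isPullback sq.flip hg
  have hπs := surjective_map_of_isPullback sq hg.1 hgs
  let Qs : Space S := ⟨(yon S).obj Q, IsAlgSpace.yon_obj Q⟩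
  have hqs := CodimOne.isQuasiSeparatedSp_of_sep hsep₂
  obtain ⟨I, _, hdir, _, D, t, c, hc, e, hD, hDa, ht, hcomp⟩ := Groth.Agent.S10033.result S (X := Qs) (Y := X₂)
    (ObjectProperty.homMk π) ((Groth.Agent.AlgSpD.isIntegralMor_iff π).2 hπ) hqc hqs
  have : IsDirectedOrder I := hdir
  have hfin : ∀ i, RepWith @IsFinite (t.app i) := fun i => (Groth.Agent.AlgSpD.isFiniteMor_iff _).1 (ht i).1
  have hqcqs := fun i => Groth.Agent.AlgSpSpec.qcqs_of_affine (hD i) X₂.property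
    (Groth.Agent.AlgSp.repWith_mono (fun f (hf : IsFinite f) => (inferInstance : IsAffineHom f)) (hfin i)) hqc hqs
  obtain ⟨i, T, hT, ⟨ε⟩⟩ := exists_quasiAffine_stage hD hDa (fun i => (hqcqs i).1) (fun i => (hqcqs i).2) hc e
  let g₂ : (yon S).obj T ⟶ X₂.obj := ε.hom ≫ t.app i
  have hg₂ : RepWith @IsFinite g₂ := (MorphismProperty.cancel_left_of_respectsIso _ ε.hom _).2 (hfin i)
  have hg₂s : Function.Surjective (Points.map g₂) := fun y => by
    obtain ⟨q, hq⟩ := hπs y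
    refine ⟨Points.map (e.inv ≫ c.π.app i ≫ ε.inv) q, ?_⟩
    rw [← Points.map_comp, show (e.inv ≫ c.π.app i ≫ ε.inv) ≫ g₂ = e.inv ≫ c.π.app i ≫ t.app i by
      simp only [g₂, Category.assoc, ε.inv_hom_id_assoc]]
    exact (congrArg (fun m => Points.map m q) (hcomp i)).trans hq
  obtain ⟨U₂, hU₂a, hU₂⟩ := exists_affineOpen_of_finite T.left (finite_fibre X₂ g₂ hg₂ x₂)
  obtain ⟨X₃, j₃, Z, g₃, k₃, hj₃, sq₃, hk₃, -, -, -, hZc, hk₃U, x₃, rfl⟩ :=
    exists_open_preimage_le X₂ hsep₂ hN₂ g₂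
      (Groth.Agent.AlgSp.repWith_mono (fun f (hf : IsFinite f) => (inferInstance : IsIntegralHom f)) hg₂) U₂ x₂
      (fun y hy => hU₂ hy)
  have : IsLocallyNoetherian T.left := CodimOne.isLocallyNoetherian_of_finite X₂.property hN₂ g₂ hg₂
  have : IsNoetherianRing Γ(T.left, U₂) := IsLocallyNoetherian.component_noetherian ⟨U₂, hU₂a⟩
  have : IsAffine U₂.toScheme := hU₂a
  let jU : Z.left ⟶ Spec Γ(T.left, U₂) :=
    IsOpenImmersion.lift U₂.ι k₃.left (by rw [Scheme.Opens.range_ι]; exact hk₃U) ≫ hU₂a.isoSpec.hom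
  have : IsOpenImmersion (IsOpenImmersion.lift U₂.ι k₃.left (by rw [Scheme.Opens.range_ι]; exact hk₃U)) := by
    have : IsOpenImmersion (IsOpenImmersion.lift U₂.ι k₃.left (by rw [Scheme.Opens.range_ι]; exact hk₃U) ≫ U₂.ι) := by
      rw [IsOpenImmersion.lift_fac]; exact hk₃
    exact IsOpenImmersion.of_comp _ U₂.ι
  have : IsOpenImmersion jU := inferInstanceAs (IsOpenImmersion (_ ≫ _))
  obtain ⟨T', j, hT', hj, t', ht'⟩ := exists_affine_nhd X₃ g₃ (MorphismProperty.of_isPullback sq₃.flip hg₂)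
    (surjective_map_of_isPullback sq₃ hg₂.1 hg₂s) (A := Γ(T.left, U₂)) jU x₃
  have hcomp' := (repWith_isMultiplicative (S := S) @IsOpenImmersion)
  refine ⟨T', j ≫ j₃.hom ≫ j₂.hom, hT', hcomp'.comp_mem _ _ hj (hcomp'.comp_mem _ _ hj₃ hj₂), t', ?_⟩
  rw [← Points.map_ofPt j, ht', Points.map_comp]

end Groth.Agent.AlgSpB.IntQuot
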