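import Groth.Agent.AlgSpB.CodimOne.Main
import Mathlib.Topology.Sober

/-!
# Points of finite covers: saturations and maximal orbits
-/

set_option autoImplicit false
set_option backward.isDefEq.respectTransparency false
set_option backward.isDefEq.respectTransparency.types false
universe u
open CategoryTheory CategoryTheory.Limits AlgebraicGeometry Topology TopologicalSpace

namespace Groth.Agent.AlgSpB.IntQuot

open _root_.AlgSp

variable {S : Scheme.{u}} (X : Space S) {Y : Over S} (g : (yon S).obj Y ⟶ X.obj) (hg : RepWith @IsFinite g)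

include hg in
theorem isClosedMap_ofPt : IsClosedMap (Points.ofPt g) := fun C hC => by
  rw [← isOpen_compl_iff, Points.isOpen_iff]
  intro T h
  obtain ⟨P, r₁, r₂, sq⟩ := AlgSpB.exists_pullback_yon hg.1 h
  have : IsFinite r₂.left := hg.2 _ _ _ sq
  have e : Points.ofPt h ⁻¹' (Points.ofPt g '' C)ᶜ = (r₂.left '' (r₁.left ⁻¹' C))ᶜ := by
    ext t
    constructor
    · rintro ht ⟨w, hw, rfl⟩
      exact ht ⟨_, hw, (ofPt_eq_ofPt_iff sq _ _).2 ⟨w, rfl, rfl⟩⟩
    · rintro ht ⟨y, hy, hyt⟩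
      obtain ⟨w, h1, h2⟩ := (ofPt_eq_ofPt_iff sq y t).1 hyt
      exact ht ⟨w, show r₁.left w ∈ C from h1.symm ▸ hy, h2⟩
  rw [e]
  exact (r₂.left.isClosedMap _ (hC.preimage r₁.left.continuous)).isOpen_compl

include hg in
theorem finite_fibre (x : Points X.obj) : (Points.ofPt g ⁻¹' {x}).Finite := by
  obtain ⟨V, a, v, -, rfl⟩ := Groth.Agent.AlgSpD.exists_chart X x
  obtain ⟨P, r₁, r₂, sq⟩ := AlgSpB.exists_pullback_yon hg.1 a
  have : IsFinite r₂.left := hg.2 _ _ _ sq
  refine ((r₂.left.finite_preimage_singleton v).image r₁.left).subset fun y hy => ?_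
  obtain ⟨w, h1, h2⟩ := (ofPt_eq_ofPt_iff sq y v).1 hy
  exact ⟨w, h2, h1⟩

include hg in
/-- Going up along the orbit relation, strictly. -/
theorem exists_lift {x x' z : Y.left} (e : Points.ofPt g x = Points.ofPt g x') (h : x ⤳ z) :
    ∃ z', x' ⤳ z' ∧ Points.ofPt g z' = Points.ofPt g z ∧ (z ≠ x → z' ≠ x') := by
  obtain ⟨R, t, s, sq⟩ := AlgSpB.exists_pullback_yon hg.1 g
  obtain ⟨r, h1, h2⟩ := (ofPt_eq_ofPt_iff sq x x').1 e
  have : IsFinite t.left := hg.2 _ _ _ sq.flip
  have : IsFinite s.left := hg.2 _ _ _ sq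
  subst h1 h2
  obtain ⟨r', hr, rfl⟩ := t.left.isClosedMap.specializingMap h
  refine ⟨s.left r', hr.map s.left.continuous, ((ofPt_eq_ofPt_iff sq _ _).2 ⟨r', rfl, rfl⟩).symm, fun hne he => hne ?_⟩
  rw [(s.left.isDiscrete_preimage_singleton (s.left r)).eq_of_specializes hr rfl he]

include hg in
/-- There are no specializations between distinct points of an orbit. -/
theorem eq_of_specializes {w w' : Y.left} (h : w ⤳ w') (e : Points.ofPt g w = Points.ofPt g w') : w = w' := by
  by_contra hne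
  let B : Set Y.left := {c | Points.ofPt g c = Points.ofPt g w ∧
    ∃ c', Points.ofPt g c' = Points.ofPt g w ∧ c' ⤳ c ∧ c' ≠ c}
  have hB : B.Finite := (finite_fibre X g hg (Points.ofPt g w)).subset fun c hc => hc.1
  obtain ⟨b, ⟨hbe, c, hce, hcb, hne'⟩, hmin⟩ := Set.exists_min_image B
    (fun c => {d | d ∈ B ∧ c ⤳ d}.ncard) hB ⟨w', e.symm, w, rfl, h, hne⟩
  obtain ⟨b', hbb', hb'e, hb'ne⟩ := exists_lift X g hg (hce.trans hbe.symm) hcb
  have hb'B : b' ∈ B := ⟨hb'e.trans hbe, b, hbe, hbb', (hb'ne hne'.symm).symm⟩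
  refine (hmin b' hb'B).not_gt (Set.ncard_lt_ncard ?_ (hB.subset fun d hd => hd.1))
  refine (Set.ssubset_iff_of_subset (fun d hd => ⟨hd.1, hbb'.trans hd.2⟩ : {d | d ∈ B ∧ b' ⤳ d} ⊆ {d | d ∈ B ∧ b ⤳ d})).2
    ⟨b, ⟨⟨hbe, c, hce, hcb, hne'⟩, specializes_rfl⟩, fun hb => ?_⟩
  exact (hb'ne hne'.symm) ((hbb'.antisymm hb.2).eq).symm

include hg in
/-- Some point of a nonempty Noetherian cover has only maximal points in its orbit. -/
theorem exists_maximal_orbit [NoetherianSpace Y.left] [Nonempty Y.left] :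
    ∃ m : Y.left, ∀ y, Points.ofPt g y = Points.ofPt g m → ∀ w, w ⤳ y → w = y := by
  classical
  let M : Set Y.left := genericPoints Y.left
  have hM : M.Finite := genericPoints.finite NoetherianSpace.finite_irreducibleComponents
  have hgen : ∀ y : Y.left, ∃ m ∈ M, m ⤳ y := fun y => by
    let p := genericPoints.ofComponent ⟨irreducibleComponent y, irreducibleComponent_mem_irreducibleComponents y⟩
    refine ⟨p.1, p.2, (genericPoints.isGenericPoint p).specializes ?_⟩
    rw [show genericPoints.component p = ⟨irreducibleComponent y, irreducibleComponent_mem_irreducibleComponents y⟩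
      from genericPoints.component_ofComponent _]
    exact mem_irreducibleComponent
  let down : Y.left → Set Y.left := fun m => {m' | m' ∈ M ∧ ∃ y, m ⤳ y ∧ Points.ofPt g y = Points.ofPt g m'}
  obtain ⟨m₀, hm₀, -⟩ := hgen (Classical.arbitrary Y.left)
  obtain ⟨m, hm, hmax⟩ := Set.exists_max_image M (fun m => (down m).ncard) hM ⟨m₀, hm₀⟩
  refine ⟨m, fun y hy w hw => ?_⟩
  by_contra hne
  obtain ⟨w', hw'M, hw'w⟩ := hgen w
  refine (hmax w' hw'M).not_gt (Set.ncard_lt_ncard ?_ (hM.subset fun d hd => hd.1))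
  have hsub : down m ⊆ down w' := fun d hd => by
    obtain ⟨z, hz, hze⟩ := hd.2
    obtain ⟨z', hz', hz'e, -⟩ := exists_lift X g hg hy.symm hz
    exact ⟨hd.1, z', (hw'w.trans hw).trans hz', hz'e.trans hze⟩
  refine (Set.ssubset_iff_of_subset hsub).2 ⟨w', ⟨hw'M, w', specializes_rfl, rfl⟩, fun h => ?_⟩
  · obtain ⟨z, hz, hze⟩ := h.2
    obtain ⟨z', hz', hz'e, -⟩ := exists_lift X g hg hy.symm hz
    have h1 := eq_of_specializes X g hg ((hw'w.trans hw).trans hz') (hze.symm.trans hz'e.symm)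
    subst h1
    have h2 : w' = y := ((hw'w.trans hw).antisymm hz').eq
    subst h2
    exact hne (hw.antisymm hw'w).eq

end Groth.Agent.AlgSpB.IntQuot
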